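import Mathlib
import Cfsg.Agent.ClassicalGeometry.PSUAutMain
import Cfsg.Agent.LieRecognition.FieldSemilinear
import Cfsg.Agent.FastGrp
import Cfsg.Agent.Prune
set_option linter.all false

section
prune_inst 0x7f00000000000000000000000000000000000000000000000000000000000000000000000000000000000000000000000000000000000000000000000000000000000000000000000000000000000000003fffffffffffffffffffffffffffbeffbdffffffff

-- part: KFacts/OutCyc/Gen
section
set_option linter.all false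
open scoped Cfsg.Agent.FastGrp

/-!
# `2`-groups of automorphisms which are cyclic modulo the inner automorphisms (helper507)

`Cyc2 K` : every `2`-subgroup `P` of `MulAut K` has an element `γ` with `P ⊆ ⟨γ⟩ Inn K`.
* `cyc2_of_hom`, `cyc2_of_two` : criteria; `Cyc2.of_equiv`;
* `Cyc2.isCyclic_quotient` : `P / (P ∩ Inn K)` is cyclic; `Cyc2.exists_mem` : the form for a `2`-subgroup `T` of a
  group normalising a subgroup `K`.
-/

set_option autoImplicit false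

namespace Cfsg.Agent.KFacts.OutCyc.Gen

/-- every `2`-group of automorphisms of `K` is cyclic modulo the inner automorphisms -/
def Cyc2 (K : Type*) [Group K] : Prop :=
  ∀ P : Subgroup (MulAut K), IsPGroup 2 ↥P → ∃ γ ∈ P, ∀ α ∈ P, ∃ (k : ℤ) (x : K), α = γ ^ k * MulAut.conj x

/-- a homomorphism of `P` to a cyclic group whose kernel consists of inner automorphisms -/
theorem exists_gen_of_hom {K : Type*} [Group K] {P : Subgroup (MulAut K)} {A : Type*} [Group A] [IsCyclic A]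
    (f : ↥P →* A) (hf : ∀ α : ↥P, f α = 1 → ∃ x, α.1 = MulAut.conj x) :
    ∃ γ ∈ P, ∀ α ∈ P, ∃ (k : ℤ) (x : K), α = γ ^ k * MulAut.conj x := by
  have hcyc : IsCyclic ↥f.range := inferInstance
  obtain ⟨⟨a, ha⟩, hgen⟩ := hcyc.exists_generator
  obtain ⟨γ, rfl⟩ := ha
  refine ⟨γ.1, γ.2, fun α hα => ?_⟩
  obtain ⟨k, hk⟩ := Subgroup.mem_zpowers_iff.1 (hgen ⟨f ⟨α, hα⟩, ⟨α, hα⟩, rfl⟩)
  have hk' : f γ ^ k = f ⟨α, hα⟩ := congrArg Subtype.val hk
  obtain ⟨x, hx⟩ := hf ((γ ^ k)⁻¹ * ⟨α, hα⟩) (by rw [map_mul, map_inv, map_zpow, hk', inv_mul_cancel])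
  refine ⟨k, x, ?_⟩
  rw [← hx]
  show α = γ.1 ^ k * ((γ.1 ^ k)⁻¹ * α)
  group

theorem cyc2_of_hom {K : Type*} [Group K]
    (h : ∀ P : Subgroup (MulAut K), IsPGroup 2 ↥P → ∃ (A : Type) (_ : Group A) (_ : IsCyclic A) (f : ↥P →* A),
      ∀ α : ↥P, f α = 1 → ∃ x, α.1 = MulAut.conj x) : Cyc2 K := by
  intro P hP
  obtain ⟨A, _, _, f, hf⟩ := h P hP
  exact exists_gen_of_hom f hf

/-- criterion: a homomorphism `f` to a cyclic group, the kernel of `f` has at most two cosets of `Inn K`, and some `φ`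
with `⟨f φ⟩ = f(Aut K)` has a power in the kernel of `f` which is not inner. -/
theorem exists_gen_of_two {K : Type*} [Group K] {A : Type*} [Group A] (f : MulAut K →* A) (φ : MulAut K) (m : ℕ)
    (hφ : ∀ α : MulAut K, ∃ k : ℤ, f α = f φ ^ k) (hm : f φ ^ m = 1) (hni : ∀ x : K, φ ^ m ≠ MulAut.conj x)
    (h2 : ∀ α β : MulAut K, f α = 1 → f β = 1 → (∀ x, α ≠ MulAut.conj x) → (∀ x, β ≠ MulAut.conj x) →
      ∃ x, α * β = MulAut.conj x) : ∀ α : MulAut K, ∃ (k : ℤ) (x : K), α = φ ^ k * MulAut.conj x := by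
  intro α
  obtain ⟨k, hk⟩ := hφ α
  have h1 : f ((φ ^ k)⁻¹ * α) = 1 := by rw [map_mul, map_inv, map_zpow, ← hk, inv_mul_cancel]
  by_cases hin : ∃ x, (φ ^ k)⁻¹ * α = MulAut.conj x
  · obtain ⟨x, hx⟩ := hin
    refine ⟨k, x, ?_⟩
    rw [← hx]; group
  · push Not at hin
    have hm' : f (φ ^ m)⁻¹ = 1 := by rw [map_inv, map_pow, hm, inv_one]
    obtain ⟨x, hx⟩ := h2 (φ ^ m)⁻¹ _ hm' h1 (by
      intro x hx
      apply hni x⁻¹
      rw [map_inv, ← hx, inv_inv]) hin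
    refine ⟨k + m, x, ?_⟩
    rw [← hx, zpow_add, zpow_natCast]; group

/-- if `Aut K = ⟨φ⟩ Inn K` then `Cyc2 K` -/
theorem cyc2_of_gen {K : Type*} [Group K] {φ : MulAut K}
    (h : ∀ α : MulAut K, ∃ (k : ℤ) (x : K), α = φ ^ k * MulAut.conj x) : Cyc2 K := by
  intro P _
  have hN : ((MulAut.conj : K →* MulAut K).range).Normal := ⟨by
    rintro _ ⟨x, rfl⟩ α
    refine ⟨α x, ?_⟩
    ext y
    simp [MulAut.conj_apply, MulAut.mul_apply]⟩
  have hcyc : IsCyclic (MulAut K ⧸ (MulAut.conj : K →* MulAut K).range) := by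
    refine ⟨⟨QuotientGroup.mk φ, fun a => ?_⟩⟩
    obtain ⟨α, rfl⟩ := QuotientGroup.mk_surjective a
    obtain ⟨k, x, rfl⟩ := h α
    refine Subgroup.mem_zpowers_iff.2 ⟨k, ?_⟩
    rw [← QuotientGroup.mk_zpow, QuotientGroup.eq]
    refine ⟨x, ?_⟩
    group
  exact exists_gen_of_hom ((QuotientGroup.mk' (MulAut.conj : K →* MulAut K).range).comp P.subtype) (fun α hα => by
    obtain ⟨x, hx⟩ := (QuotientGroup.eq_one_iff _).1 hα
    exact ⟨x, hx.symm⟩)

theorem Cyc2.of_equiv {K L : Type*} [Group K] [Group L] (e : K ≃* L) (h : Cyc2 K) : Cyc2 L := by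
  intro P hP
  set c : MulAut L →* MulAut K := (MulAut.congr e.symm).toMonoidHom with hc
  have hcx : ∀ (α : MulAut L) (x : K), c α x = e.symm (α (e x)) := fun α x => rfl
  have hinj : Function.Injective c := (MulAut.congr e.symm).injective
  obtain ⟨γ, ⟨γ', hγ', rfl⟩, h1⟩ := h (P.map c) (hP.map c)
  refine ⟨γ', hγ', fun α hα => ?_⟩
  obtain ⟨k, x, hx⟩ := h1 (c α) ⟨α, hα, rfl⟩
  refine ⟨k, e x, hinj ?_⟩
  rw [hx, map_mul, map_zpow]
  congr 1
  ext y
  rw [hcx, MulAut.conj_apply, MulAut.conj_apply, map_mul, map_mul, map_inv, e.symm_apply_apply,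
    e.symm_apply_apply]

/-- The form for a `2`-subgroup `T` of a group normalising `K`: there is `y ∈ T` with `T ⊆ ⟨y⟩ K C(K)`. -/
theorem Cyc2.exists_mem {G : Type*} [Group G] {K T : Subgroup G} (h : Cyc2 ↥K) (hT : IsPGroup 2 ↥T)
    (hn : ∀ g ∈ T, ∀ x, x ∈ K ↔ g * x * g⁻¹ ∈ K) :
    ∃ y ∈ T, ∀ g ∈ T, ∃ (k : ℤ) (x c : G), x ∈ K ∧ (∀ z ∈ K, c * z = z * c) ∧ g = y ^ k * x * c := by
  let a : ↥T →* MulAut ↥K := MonoidHom.mk' (fun g =>
    { toFun := fun x => ⟨g.1 * x * g.1⁻¹, (hn g.1 g.2 x).1 x.2⟩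
      invFun := fun x => ⟨g.1⁻¹ * x * g.1, by
        rw [hn g.1 g.2]
        have : g.1 * (g.1⁻¹ * x * g.1) * g.1⁻¹ = x := by group
        rw [this]; exact x.2⟩
      left_inv := fun x => Subtype.ext (by
        show g.1⁻¹ * (g.1 * x * g.1⁻¹) * g.1 = x
        group)
      right_inv := fun x => Subtype.ext (by
        show g.1 * (g.1⁻¹ * x * g.1) * g.1⁻¹ = x
        group)
      map_mul' := fun x y => Subtype.ext (by
        show g.1 * (x * y) * g.1⁻¹ = (g.1 * x * g.1⁻¹) * (g.1 * y * g.1⁻¹)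
        group) }) (fun g g' => by
      ext x
      show g.1 * g'.1 * x * (g.1 * g'.1)⁻¹ = g.1 * (g'.1 * x * g'.1⁻¹) * g.1⁻¹
      group)
  have ha : ∀ (g : ↥T) (x : ↥K), ((a g x : ↥K) : G) = g.1 * x * g.1⁻¹ := fun _ _ => rfl
  obtain ⟨γ, ⟨y, rfl⟩, h1⟩ := h a.range (hT.of_surjective a.rangeRestrict a.rangeRestrict_surjective)
  refine ⟨y.1, y.2, fun g hg => ?_⟩
  obtain ⟨k, x, hx⟩ := h1 (a ⟨g, hg⟩) ⟨_, rfl⟩
  refine ⟨k, x.1, (y.1 ^ k * x.1)⁻¹ * g, x.2, ?_, by group⟩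
  intro z hz
  have h2 : a ((y ^ k)⁻¹ * ⟨g, hg⟩) = MulAut.conj x := by
    rw [map_mul, map_inv, map_zpow, hx]; group
  have h3 := congrArg (fun α : MulAut ↥K => ((α ⟨z, hz⟩ : ↥K) : G)) h2
  have h4 : ((y.1 ^ k)⁻¹ * g) * z * ((y.1 ^ k)⁻¹ * g)⁻¹ = x.1 * z * x.1⁻¹ := h3
  calc (y.1 ^ k * x.1)⁻¹ * g * z
      = x.1⁻¹ * (((y.1 ^ k)⁻¹ * g) * z * ((y.1 ^ k)⁻¹ * g)⁻¹) * ((y.1 ^ k)⁻¹ * g) := by group
    _ = x.1⁻¹ * (x.1 * z * x.1⁻¹) * ((y.1 ^ k)⁻¹ * g) := by rw [h4]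
    _ = z * ((y.1 ^ k * x.1)⁻¹ * g) := by group

end Cfsg.Agent.KFacts.OutCyc.Gen
end

-- part: KFacts/OutCyc/PSU
section
set_option linter.all false
open scoped Cfsg.Agent.FastGrp

/-!
# `2`-groups of automorphisms of `PSU n F q`, `q` even, are cyclic modulo the inner automorphisms (helper507)

* `rho` : the field automorphism of an automorphism; `pow_inner` : if it is trivial then `α ^ (q + 1)` is inner;
* `exists_hom`, `cyc2`.
-/

set_option autoImplicit false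

namespace Cfsg.Agent.KFacts.OutCyc.PSU

open Cfsg Cfsg.Agent.LieClassical.HermBasic Cfsg.Agent.LieClassical.HermSiegel
  Cfsg.Agent.LieClassical.HermGen Cfsg.Agent.LieClassical.SUBasic Matrix
  Cfsg.Agent.ClassicalGeometry.PSUAutBasic
open Cfsg.Agent.ClassicalGeometry.PSUAutCount (gm semiConj toAut herm_gm act_semiConj herm_semi
  gm_inv_mulVec gm_mulVec_inv gm_mul gm_one gm_inj eq_of_toAut_eq)
open Cfsg.Agent.ClassicalGeometry.PSUAutMain (toAut_pr')
open Cfsg.Agent.KFacts.OutCyc.Gen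

variable {F : Type*} [Field F] {q n : ℕ}

/-- the matrix of `ρ(A)` -/
theorem map_mulVec (ρ : F ≃+* F) (A : Matrix (Fin n) (Fin n) F) (v : Fin n → F) :
    A.map ρ *ᵥ (fun i => ρ (v i)) = fun i => ρ ((A *ᵥ v) i) := by
  funext i
  simp only [mulVec, dotProduct, map_apply, map_sum, map_mul]

theorem eq_map_symm (ρ : F ≃+* F) (v : Fin n → F) : v = fun i => ρ ((fun j => ρ.symm (v j)) i) := by
  funext i; simp

/-- a field automorphism applied to an element of `GU` -/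
def gmap (ρ : F ≃+* F) (A : GU n F q) : GU n F q :=
  ⟨GeneralLinearGroup.map (ρ : F →+* F) A.1, by
    refine (Cfsg.Agent.ClassicalGeometry.GUBasic.mem_GU_iff _).2 ?_
    intro u v
    change hermForm n F q ((gm A).map ρ *ᵥ u) ((gm A).map ρ *ᵥ v) = _
    rw [eq_map_symm ρ u, eq_map_symm ρ v, map_mulVec, map_mulVec]
    have h1 := Cfsg.Agent.ClassicalGeometry.PSUAutCount.herm_map (q := q) ρ
      (gm A *ᵥ fun j => ρ.symm (u j)) (gm A *ᵥ fun j => ρ.symm (v j))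
    rw [h1, herm_gm]
    exact (Cfsg.Agent.ClassicalGeometry.PSUAutCount.herm_map (q := q) ρ (fun j => ρ.symm (u j))
      (fun j => ρ.symm (v j))).symm⟩

theorem gm_gmap (ρ : F ≃+* F) (A : GU n F q) : gm (gmap ρ A) = (gm A).map ρ := rfl

/-- composition -/
theorem toAut_mul (A B : GU n F q) (ρ σ : F ≃+* F) :
    toAut A ρ * toAut B σ = toAut (A * gmap ρ B) (ρ * σ) := by
  ext x
  obtain ⟨g, rfl⟩ := pr_surjective x
  rw [MulAut.mul_apply, toAut_pr', toAut_pr', toAut_pr']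
  congr 1
  apply ext_act
  intro y
  obtain ⟨z, rfl⟩ : ∃ z : Fin n → F, y = gm A *ᵥ fun i => ρ ((gm B *ᵥ fun j => σ (z j)) i) := by
    refine ⟨fun j => σ.symm ((gm B⁻¹ *ᵥ fun i => ρ.symm ((gm A⁻¹ *ᵥ y) i)) j), ?_⟩
    have h1 : (fun j => σ (σ.symm ((gm B⁻¹ *ᵥ fun i => ρ.symm ((gm A⁻¹ *ᵥ y) i)) j))) =
        gm B⁻¹ *ᵥ fun i => ρ.symm ((gm A⁻¹ *ᵥ y) i) := by funext j; simp
    rw [h1, gm_mulVec_inv]
    have h2 : (fun i => ρ (ρ.symm ((gm A⁻¹ *ᵥ y) i))) = gm A⁻¹ *ᵥ y := by funext i; simp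
    rw [h2, gm_mulVec_inv]
  rw [act_semiConj, act_semiConj]
  have h1 : (gm A *ᵥ fun i => ρ ((gm B *ᵥ fun j => σ (z j)) i)) =
      gm (A * gmap ρ B) *ᵥ fun i => (ρ * σ) (z i) := by
    rw [gm_mul, gm_gmap, ← mulVec_mulVec]
    congr 1
    exact (map_mulVec ρ (gm B) fun j => σ (z j)).symm
  have h2 : (gm A *ᵥ fun i => ρ ((gm B *ᵥ fun j => σ (act g z j)) i)) =
      gm (A * gmap ρ B) *ᵥ fun i => (ρ * σ) (act g z i) := by
    rw [gm_mul, gm_gmap, ← mulVec_mulVec]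
    congr 1
    exact (map_mulVec ρ (gm B) fun j => σ (act g z j)).symm
  rw [h1, h2, act_semiConj]

/-- conjugation by an element of `SU` -/
theorem toAut_eq_conj {A : GU n F q} {g : SU n F q} (h : gm A = mat g) :
    toAut A 1 = MulAut.conj (pr n F q g) := by
  ext x
  obtain ⟨k, rfl⟩ := pr_surjective x
  rw [toAut_pr', MulAut.conj_apply, ← map_inv, ← map_mul, ← map_mul]
  congr 1
  apply ext_act
  intro y
  obtain ⟨z, rfl⟩ : ∃ z, y = act g z := ⟨act g⁻¹ y, by rw [← act_mul, mul_inv_cancel, act_one]⟩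
  have h1 : act g z = gm A *ᵥ fun i => (1 : F ≃+* F) (z i) := by
    rw [h, act_def]; rfl
  rw [act_mul, act_mul, ← act_mul g⁻¹ g, inv_mul_cancel, act_one]
  rw [h1, act_semiConj]
  have h2 : (gm A *ᵥ fun i => (1 : F ≃+* F) (act k z i)) = act g (act k z) := by
    rw [h, act_def g]; rfl
  exact h2

theorem toAut_pow (A : GU n F q) (k : ℕ) : toAut A 1 ^ k = toAut (A ^ k) 1 := by
  have hm : ∀ B : GU n F q, gmap (1 : F ≃+* F) B = B := by
    intro B
    apply gm_inj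
    rw [gm_gmap]
    ext i j
    rfl
  induction k with
  | zero =>
    rw [pow_zero, pow_zero, toAut_eq_conj (g := (1 : SU n F q)) (by rw [gm_one]; rfl), map_one, map_one]
  | succ k ih => rw [pow_succ, ih, toAut_mul, hm, mul_one, ← pow_succ]

section Fin

variable [Fintype F]

omit [Fintype F] in
theorem gm_pow (A : GU n F q) (k : ℕ) : gm (A ^ k) = gm A ^ k := by
  induction k with
  | zero => rw [pow_zero, pow_zero, gm_one]
  | succ k ih => rw [pow_succ, gm_mul, ih, pow_succ]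

/-- `α ^ (q + 1)` is inner for linear `α` -/
theorem pow_inner (hF : Fintype.card F = q ^ 2) (A : GU n F q) :
    ∃ x, toAut A 1 ^ (q + 1) = MulAut.conj x := by
  have hdet : (gm (A ^ (q + 1))).det = 1 := by
    rw [gm_pow, det_pow]
    exact Cfsg.Agent.ClassicalGeometry.GUBasic.det_pow hF (fun u v => herm_gm A u v)
  have hmem : (⟨gm (A ^ (q + 1)), hdet⟩ : Matrix.SpecialLinearGroup (Fin n) F) ∈ SU n F q :=
    (LieClassical.SUBasic.mem_SU_iff _).2 (fun u v => herm_gm (A ^ (q + 1)) u v)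
  rw [toAut_pow]
  exact ⟨_, toAut_eq_conj (g := ⟨_, hmem⟩) rfl⟩

variable (hF : Fintype.card F = q ^ 2) (hn : 3 ≤ n) (h32 : ¬ (n = 3 ∧ q = 2))

include hF hn h32 in
theorem exists_rho (α : MulAut (PSU n F q)) : ∃ ρ : F ≃+* F, ∃ A : GU n F q, α = toAut A ρ := by
  obtain ⟨A, ρ, h⟩ := Cfsg.Agent.ClassicalGeometry.PSUAutMain.exists_toAut hF hn h32 α
  exact ⟨ρ, A, h⟩

/-- the field automorphism of an automorphism of `PSU n F q` -/
noncomputable def rho : MulAut (PSU n F q) →* (F ≃+* F) := MonoidHom.mk'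
  (fun α => Classical.choose (exists_rho hF hn h32 α)) (by
    intro α β
    obtain ⟨A, hA⟩ := Classical.choose_spec (exists_rho hF hn h32 α)
    obtain ⟨B, hB⟩ := Classical.choose_spec (exists_rho hF hn h32 β)
    obtain ⟨C, hC⟩ := Classical.choose_spec (exists_rho hF hn h32 (α * β))
    have h1 : toAut (A * gmap (Classical.choose (exists_rho hF hn h32 α)) B)
        (Classical.choose (exists_rho hF hn h32 α) * Classical.choose (exists_rho hF hn h32 β)) =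
        toAut C (Classical.choose (exists_rho hF hn h32 (α * β))) := by
      rw [← toAut_mul, ← hA, ← hB, ← hC]
    exact (eq_of_toAut_eq hF hn h1).1)

theorem rho_spec (α : MulAut (PSU n F q)) : ∃ A : GU n F q, α = toAut A (rho hF hn h32 α) :=
  Classical.choose_spec (exists_rho hF hn h32 α)

theorem rho_toAut (A : GU n F q) (ρ : F ≃+* F) : rho hF hn h32 (toAut A ρ) = ρ := by
  obtain ⟨B, hB⟩ := rho_spec hF hn h32 (toAut A ρ)
  exact (eq_of_toAut_eq hF hn hB).1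

theorem rho_conj (x : PSU n F q) : rho hF hn h32 (MulAut.conj x) = 1 := by
  obtain ⟨g, rfl⟩ := pr_surjective x
  have hu : IsUnit (mat g).det := by rw [show (mat g).det = 1 from g.1.2]; exact isUnit_one
  let A : GU n F q := ⟨GeneralLinearGroup.mk'' (mat g) hu, by
    refine (Cfsg.Agent.ClassicalGeometry.GUBasic.mem_GU_iff _).2 ?_
    intro u v
    exact (LieClassical.SUBasic.mem_SU_iff _).1 g.2 u v⟩
  rw [← toAut_eq_conj (A := A) (g := g) rfl, rho_toAut]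

/-- **`2`-groups of automorphisms of `PSU n F q`, `q` even.** -/
theorem exists_hom (h2 : Even q) {P : Subgroup (MulAut (PSU n F q))} (hP : IsPGroup 2 ↥P) :
    ∀ α ∈ P, rho hF hn h32 α = 1 ↔ ∃ x, α = MulAut.conj x := by
  intro α hα
  constructor
  · intro h1
    obtain ⟨A, hA⟩ := rho_spec hF hn h32 α
    rw [h1] at hA
    obtain ⟨x, hx⟩ := pow_inner hF A
    rw [← hA] at hx
    obtain ⟨k, hk⟩ := hP ⟨α, hα⟩
    have hk' : α ^ 2 ^ k = 1 := congrArg Subtype.val hk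
    have hcop : Nat.Coprime (q + 1) (2 ^ k) := by
      apply Nat.Coprime.pow_right
      rw [Nat.coprime_two_right]
      exact h2.add_one
    -- `α = (α ^ (q + 1)) ^ a`
    have hbez : ((q + 1 : ℕ) : ℤ) * Nat.gcdA (q + 1) (2 ^ k) + ((2 ^ k : ℕ) : ℤ) * Nat.gcdB (q + 1) (2 ^ k) = 1 := by
      rw [← Nat.gcd_eq_gcd_ab, Nat.Coprime.gcd_eq_one hcop]; rfl
    refine ⟨x ^ Nat.gcdA (q + 1) (2 ^ k), ?_⟩
    rw [map_zpow, ← hx, ← zpow_natCast, ← _root_.zpow_mul]
    have h3 : α ^ (((2 ^ k : ℕ) : ℤ) * Nat.gcdB (q + 1) (2 ^ k)) = 1 := by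
      rw [_root_.zpow_mul, zpow_natCast, hk', _root_.one_zpow]
    calc α = α ^ (1 : ℤ) := (zpow_one α).symm
      _ = α ^ (((q + 1 : ℕ) : ℤ) * Nat.gcdA (q + 1) (2 ^ k)) *
            α ^ (((2 ^ k : ℕ) : ℤ) * Nat.gcdB (q + 1) (2 ^ k)) := by rw [← _root_.zpow_add, hbez]
      _ = _ := by rw [h3, mul_one]
  · rintro ⟨x, rfl⟩
    exact rho_conj hF hn h32 x

include hF hn h32 in
/-- **`2`-groups of automorphisms of `PSU n F q`, `q` even, are cyclic modulo the inner automorphisms.** -/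
theorem cyc2 (h2 : Even q) : Cyc2 (PSU n F q) := by
  intro P hP
  have : IsCyclic (F ≃+* F) := Cfsg.Agent.LieRecognition.FieldSemilinear.isCyclic_ringAut F
  exact exists_gen_of_hom ((rho hF hn h32).comp P.subtype) fun α hα =>
    (exists_hom hF hn h32 h2 hP α.1 α.2).1 hα

end Fin

end Cfsg.Agent.KFacts.OutCyc.PSU
end
end
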